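import Mathlib
import Cfsg.Prelude.Def_ChevStructure
import Cfsg.Agent.Lib.helper14.F4Cg
import Cfsg.Agent.Lib.helper8.ChevTw1
import Cfsg.Agent.Lib.helper8.ChevTw4

/-!
# Project INV (S2174): involutions of Chevalley groups in characteristic two — definitions

Every involution of `G` is conjugate to an involution of `N` lying over a Weyl group element of the form
`w₀ w_J` (the "maximal Bruhat cell" argument), see `PLAN.md`.
-/

set_option autoImplicit false

namespace Cfsg.Agent.Lib.helper14.INV

open Cfsg.Lie Cfsg.Lie.ChevalleyDatum Cfsg.Agent.Lib.helper8 Cfsg.Agent.Lib.helper14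

universe u

variable {F : Type u} [Field F]

/-- conjugacy in the Chevalley group -/
def Cj (D : ChevalleyDatum) (a b : GL D.Idx F) : Prop := ∃ g ∈ D.group F, g * a * g⁻¹ = b

/-- `w` is a word in the fundamental reflections -/
def ValidW (D : ChevalleyDatum) (w : List ℕ) : Prop := ∀ i ∈ w, i < D.rank

/-- `y` lies in the Bruhat cell `B n_w B` of the word `w` -/
def InCell (D : ChevalleyDatum) (hB : H8Base.{u} D) (y : GL D.Idx F) (w : List ℕ) : Prop :=
  ∃ b1 ∈ D.borelSubgroup F, ∃ b2 ∈ D.borelSubgroup F,
    y = b1 * (h8nWU D hB w : GL D.Idx F) * b2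

/-- the length (number of inversions) of the Weyl group element of the word `w` -/
noncomputable def len (D : ChevalleyDatum) (hA : H8ReflAll D) (w : List ℕ) : ℕ :=
  h8Ninv D (h8wPerm D hA w)

/-- the cell of `w` has maximal length among the cells met by the `G`-conjugates of `t` -/
def IsMax (D : ChevalleyDatum) (hB : H8Base.{u} D) (hA : H8ReflAll D) (t : GL D.Idx F)
    (w : List ℕ) : Prop :=
  ∀ g ∈ D.group F, ∀ w' : List ℕ, ValidW D w' → InCell D hB (g * t * g⁻¹) w' →
    len D hA w' ≤ len D hA w

/-- the fundamental roots fixed by `w` -/
def FixJ (D : ChevalleyDatum) (w : List ℕ) : Set ℕ :=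
  {i | i < D.rank ∧ h8sW D w (D.simple i) = D.simple i}

/-- `w` (an involution on the roots) fixes or makes negative every fundamental root -/
def JProp (D : ChevalleyDatum) (w : List ℕ) : Prop :=
  (∀ r < D.nroots, h8sW D w (h8sW D w r) = r) ∧
  ∀ i < D.rank, h8sW D w (D.simple i) = D.simple i ∨ ¬ D.IsPosRoot (h8sW D w (D.simple i))

/-- the checkable property used by LS: every positive non-fundamental root `r` has a fundamental
reflection `s_i`, `i` in the support of `r`, lowering its height; reflections in `p_i` change only the
`i`-th coordinate; the `j`-th coordinate of `p_j` is positive. -/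
def lsChk (D : ChevalleyDatum) : Bool :=
  ((List.range D.nroots).all fun r =>
    !decide (D.IsPosRoot r) || (List.range D.rank).any (fun i => D.simple i == r) ||
      (List.range D.rank).any fun i =>
        decide (0 < (D.coroot.getD r #[]).getD i 0) &&
        decide (D.IsPosRoot (D.reflectRoot i r)) &&
        decide (((D.coroot.getD (D.reflectRoot i r) #[]).toList.sum : ℤ) <
          ((D.coroot.getD r #[]).toList.sum : ℤ))) &&
  ((List.range D.nroots).all fun r => (List.range D.rank).all fun i => (List.range D.rank).all fun k =>
    k == i || decide ((D.coroot.getD (D.reflectRoot i r) #[]).getD k 0 =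
      (D.coroot.getD r #[]).getD k 0)) &&
  ((List.range D.rank).all fun j => decide (0 < (D.coroot.getD (D.simple j) #[]).getD j 0))

/-- one pass of the collection process on a word of positive roots (all coefficients `1`, characteristic
two): the first adjacent pair `(a, b)` with `a = b` is deleted, resp. with `a > b` is replaced by `b, a`
followed by the roots `k` of the terms of `commTerms b a` with an odd coefficient -/
def collStep (D : ChevalleyDatum) : List ℕ → List ℕ
  | [] => []
  | [a] => [a]
  | a :: b :: l =>
    if a = b then l
    else if b < a then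
      b :: a :: (((D.commTerms b a).filter fun c => c.2.1 % 2 ≠ 0).map fun c => c.1) ++ l
    else a :: collStep D (b :: l)

/-- `fuel` passes -/
def coll (D : ChevalleyDatum) (fuel : ℕ) (w : List ℕ) : List ℕ := (collStep D)^[fuel] w

end Cfsg.Agent.Lib.helper14.INV
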