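import Mathlib
import Cfsg.Prelude.Def_ChevStructure
import Cfsg.Agent.Lib.helper14.INV.Defs

/-!
# Project INV (S2174): the data for type `F₄`
-/

set_option autoImplicit false

namespace Cfsg.Agent.Lib.helper14.INV

open Cfsg.Lie Cfsg.Lie.ChevalleyDatum Cfsg.Agent.Lib.helper8 Cfsg.Agent.Lib.helper14

/-- the twelve involutions `w₀ w_J` of `W(F₄)` fixing or making negative every fundamental root, as
lists of the images of the `48` roots; `J = {2,3,4}, {1,2,3}, {2,3}, {2,4}, {1,4}, {1,3}, {4}, {3}, {2},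
{1}, ∅, {1,2,3,4}` (the last one is the identity) -/
def f4Tabs : List (List ℕ) :=
  [[41, 42, 43, 44, 45, 46, 47, 33, 34, 35, 36, 37, 38, 39, 40, 15, 16, 17, 18, 19, 20, 21, 22, 23, 24, 25, 26, 27, 28, 29, 30, 31, 32, 7, 8, 9, 10, 11, 12, 13, 14, 0, 1, 2, 3, 4, 5, 6],
   [47, 24, 26, 29, 31, 32, 6, 36, 38, 39, 10, 40, 12, 13, 14, 42, 43, 17, 44, 19, 20, 45, 22, 46, 1, 25, 2, 27, 28, 3, 30, 4, 5, 33, 34, 35, 7, 37, 8, 9, 11, 41, 15, 16, 18, 21, 23, 0],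
   [47, 42, 43, 44, 45, 46, 41, 36, 38, 39, 33, 40, 34, 35, 37, 24, 26, 17, 29, 19, 20, 31, 22, 32, 15, 25, 16, 27, 28, 18, 30, 21, 23, 10, 12, 13, 7, 14, 8, 9, 11, 6, 1, 2, 3, 4, 5, 0],
   [46, 47, 43, 44, 45, 41, 42, 39, 40, 35, 36, 37, 38, 33, 34, 32, 25, 26, 28, 29, 20, 30, 31, 23, 24, 16, 17, 27, 18, 19, 21, 22, 15, 13, 14, 9, 10, 11, 12, 7, 8, 5, 6, 2, 3, 4, 0, 1],
   [46, 47, 45, 40, 32, 30, 31, 44, 39, 37, 38, 28, 29, 27, 14, 43, 41, 42, 35, 36, 34, 25, 26, 23, 24, 21, 22, 13, 11, 12, 5, 6, 4, 33, 20, 18, 19, 9, 10, 8, 3, 16, 17, 15, 7, 2, 0, 1],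
   [47, 45, 46, 40, 31, 32, 30, 44, 38, 39, 37, 29, 27, 28, 14, 42, 43, 41, 36, 34, 35, 24, 22, 26, 21, 25, 23, 12, 13, 11, 6, 4, 5, 33, 19, 20, 18, 10, 8, 9, 3, 17, 15, 16, 7, 1, 2, 0],
   [46, 47, 45, 44, 43, 41, 42, 40, 39, 37, 38, 35, 36, 34, 33, 32, 30, 31, 28, 29, 27, 25, 26, 23, 24, 21, 22, 20, 18, 19, 16, 17, 15, 14, 13, 11, 12, 9, 10, 8, 7, 5, 6, 4, 3, 2, 0, 1],
   [47, 45, 46, 44, 42, 43, 41, 40, 38, 39, 37, 36, 34, 35, 33, 31, 32, 30, 29, 27, 28, 24, 22, 26, 21, 25, 23, 19, 20, 18, 17, 15, 16, 14, 12, 13, 11, 10, 8, 9, 7, 6, 4, 5, 3, 1, 2, 0],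
   [47, 46, 43, 44, 45, 42, 41, 39, 40, 36, 35, 38, 37, 33, 34, 32, 26, 25, 29, 28, 20, 31, 30, 24, 23, 17, 16, 27, 19, 18, 22, 21, 15, 13, 14, 10, 9, 12, 11, 7, 8, 6, 5, 2, 3, 4, 1, 0],
   [47, 46, 45, 40, 32, 31, 30, 44, 39, 38, 37, 29, 28, 27, 14, 43, 42, 41, 36, 35, 34, 26, 25, 24, 23, 22, 21, 13, 12, 11, 6, 5, 4, 33, 20, 19, 18, 10, 9, 8, 3, 17, 16, 15, 7, 2, 1, 0],
   [47, 46, 45, 44, 43, 42, 41, 40, 39, 38, 37, 36, 35, 34, 33, 32, 31, 30, 29, 28, 27, 26, 25, 24, 23, 22, 21, 20, 19, 18, 17, 16, 15, 14, 13, 12, 11, 10, 9, 8, 7, 6, 5, 4, 3, 2, 1, 0],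
   [0, 1, 2, 3, 4, 5, 6, 7, 8, 9, 10, 11, 12, 13, 14, 15, 16, 17, 18, 19, 20, 21, 22, 23, 24, 25, 26, 27, 28, 29, 30, 31, 32, 33, 34, 35, 36, 37, 38, 39, 40, 41, 42, 43, 44, 45, 46, 47]]

/-- for each of the first eleven tables, pairwise orthogonal positive roots whose reflections multiply
to it -/
def f4Std : List (List ℕ) :=
  [[44], [47], [41, 47], [32, 44], [39, 45], [37, 47], [32, 43, 45], [30, 41, 47], [28, 29, 44],
   [37, 38, 39], [32, 37, 38, 43]]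

/-- the class representative to which `∏ x_r(1)`, `r ∈ f4Std[k]`, is conjugate -/
def f4Rep : List (List ℕ) :=
  [[44], [47], [47, 44], [39, 45], [39, 45], [39, 45], [39, 45], [39, 45], [39, 45], [39, 45],
   [39, 45]]

/-- the four class representatives `x_47(1)`, `x_44(1)`, `x_47(1) x_44(1)`, `x_39(1) x_45(1)` -/
def f4Reps : List (List ℕ) := [[47], [44], [47, 44], [39, 45]]

universe u

variable {F : Type u} [Field F]

/-- the word `∏ x_r(1)` -/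
def w1 (D : ChevalleyDatum) (hB : H8Base.{u} D) (R : List ℕ) : GL D.Idx F :=
  h8wordU D hB (R.map fun r => (r, (1 : F)))

/-- the product `∏ n_r(1)` -/
def n1 (D : ChevalleyDatum) (hB : H8Base.{u} D) (R : List ℕ) : GL D.Idx F :=
  (R.map fun r => h8nU D hB r (1 : F)).prod

end Cfsg.Agent.Lib.helper14.INV
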