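import Mathlib
import Cfsg.Prelude.Def_ChevStructure
import Cfsg.Agent.Lib.helper14.INV.Defs
import Cfsg.Agent.Lib.Helper10.INVMAXC
import Cfsg.Agent.Lib.Helper10.INVUPLE
import Cfsg.Agent.Lib.Helper10.INVWZERO
import Cfsg.Agent.Lib.Helper12.INVCONJW
import Cfsg.Agent.Lib.Helper22.INVCOMMJ
import Cfsg.Agent.Lib.Helper22.INVM1a
import Cfsg.Agent.Lib.Helper22.INVM2a
import Cfsg.Agent.Lib.Helper24.INVMAX
import Cfsg.Agent.Lib.helper14.INVLENb
import Cfsg.Agent.Lib.helper14.INVLSb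
import Cfsg.Agent.Lib.helper14.INVSUPPb
import Cfsg.Agent.Lib.helper23.INVINVOL
import Cfsg.Agent.Lib.helper23.INVNF
import Cfsg.Agent.Lib.helper23.INVSAMEPERM

/-!
# Project INV (S2174): the generic assembly — every involution is conjugate into `N`
-/

set_option autoImplicit false

namespace Cfsg.Agent.Lib.helper14.INV

open Cfsg.Lie Cfsg.Lie.ChevalleyDatum Cfsg.Agent.Lib.helper8 Cfsg.Agent.Lib.helper14

universe u

variable {F : Type u} [Field F]

/-- M2 : in a maximal cell, a fundamental root mapped to a positive root is fixed -/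
theorem max_simple_fixed (D : ChevalleyDatum) (hB : H8Base.{u} D) (hB0 : H8Base.{0} D)
    (hA : H8ReflAll D) (hC : H8CommAll.{u} D) (hBN : H8BN D) (hW : H8BN2 D) (hO2 : H8Ord2 D)
    (w : List ℕ) (hw : ValidW D w) (h0 u : GL D.Idx F) (hh : h0 ∈ D.diagonalSubgroup F)
    (hu : u ∈ D.posUnipotent F)
    (hsq : (h0 * (h8nWU D hB w : GL D.Idx F) * u) * (h0 * (h8nWU D hB w : GL D.Idx F) * u) = 1)
    (hmax : IsMax D hB hA (h0 * (h8nWU D hB w : GL D.Idx F) * u) w)
    (i : ℕ) (hi : i < D.rank) (hpos : D.IsPosRoot (h8sW D w (D.simple i))) :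
    h8sW D w (D.simple i) = D.simple i := by
  by_contra hne
  have hinv := invol_sq D hB hA hC hBN hW hO2 w hw h0 u hh hu hsq
  have h1 := cell_conj_neg_simple D hB hA hC hBN hW w hw h0 u hh hu i hi hinv hpos hne
  have h2 := len_conj_simple_b D hB0 hA hBN hW hO2 w hw i hi hinv hpos hne
  have hv : ValidW D (i :: (w ++ [i])) := by
    intro k hk
    simp only [List.mem_cons, List.mem_append, List.not_mem_nil, or_false] at hk
    rcases hk with rfl | hk | rfl
    · exact hi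
    · exact hw k hk
    · exact hi
  have hxG : h8xU D hB (D.neg (D.simple i)) (1 : F) ∈ D.group F := h8xU_mem_group D hB _ _
  have := hmax _ hxG _ hv h1
  omega

/-- M1 : in a maximal cell, the coordinate of `u` at a fundamental root fixed by `w` vanishes -/
theorem max_coord_zero (D : ChevalleyDatum) (hB : H8Base.{u} D) (hB0 : H8Base.{0} D)
    (hA : H8ReflAll D) (hC : H8CommAll.{u} D) (hBN : H8BN D) (hW : H8BN2 D) (hO2 : H8Ord2 D)
    (w : List ℕ) (hw : ValidW D w) (h0 u₁ : GL D.Idx F) (hh : h0 ∈ D.diagonalSubgroup F)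
    (i : ℕ) (hi : i < D.rank) (a : F)
    (hu₁ : u₁ ∈ Subgroup.closure (h8UpSet D F (D.simple i)))
    (hfix : h8sW D w (D.simple i) = D.simple i)
    (hsq : (h0 * (h8nWU D hB w : GL D.Idx F) * (h8xU D hB (D.simple i) a * u₁)) *
      (h0 * (h8nWU D hB w : GL D.Idx F) * (h8xU D hB (D.simple i) a * u₁)) = 1)
    (hmax : IsMax D hB hA (h0 * (h8nWU D hB w : GL D.Idx F) * (h8xU D hB (D.simple i) a * u₁)) w) :
    a = 0 := by
  by_contra ha
  have hpi := h8simple_pos D hBN i hi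
  have hu : h8xU D hB (D.simple i) a * u₁ ∈ D.posUnipotent F :=
    Subgroup.mul_mem _ (h8xU_mem_U D hB _ hpi a) (up_le_U D hB _ hu₁)
  have hinv := invol_sq D hB hA hC hBN hW hO2 w hw h0 _ hh hu hsq
  have h1 := cell_conj_n_simple D hB hA hC hBN hW w hw h0 u₁ hh i hi a ha hu₁ hfix
  have h2 := len_cons_simple_b D hB0 hA hBN hW hO2 w hw i hi hinv hfix
  have hv : ValidW D (i :: w) := by
    intro k hk
    rcases List.mem_cons.mp hk with rfl | hk
    · exact hi
    · exact hw k hk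
  have hnG : h8nU D hB (D.simple i) (1 : F) ∈ D.group F :=
    h8_N_le_group D hB (h8nU_mem_N D hB _ hpi.1)
  have := hmax _ hnG _ hv h1
  omega

/-- KILL : in a maximal cell the unipotent part is trivial -/
theorem max_u_trivial (D : ChevalleyDatum) (hB : H8Base.{u} D) (hB0 : H8Base.{0} D)
    (hA : H8ReflAll D) (hC : H8CommAll.{u} D) (hBN : H8BN D) (hW : H8BN2 D) (hO : H8Ord D)
    (hO2 : H8Ord2 D) (hls : lsChk D = true)
    (w : List ℕ) (hw : ValidW D w) (h0 u : GL D.Idx F) (hh : h0 ∈ D.diagonalSubgroup F)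
    (hu : u ∈ D.posUnipotent F)
    (hsq : (h0 * (h8nWU D hB w : GL D.Idx F) * u) * (h0 * (h8nWU D hB w : GL D.Idx F) * u) = 1)
    (hmax : IsMax D hB hA (h0 * (h8nWU D hB w : GL D.Idx F) * u) w)
    (hstruct : ∀ r, D.IsPosRoot r → D.IsPosRoot (h8sW D w r) → D.InRootSub (FixJ D w) r) :
    u = 1 := by
  classical
  obtain ⟨c, rfl, hc⟩ := invol_supp_b D hB hA hC hBN hW hO hO2 w hw h0 u hh hu hsq
  by_cases hall : ∀ r, D.IsPosRoot r → c r = 0
  · exact f4cW_zero' D hB c hall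
  · exfalso
    push_neg at hall
    obtain ⟨r₁, hr₁, hcr₁⟩ := hall
    set S : Finset ℕ := (Finset.range D.nroots).filter fun r => D.IsPosRoot r ∧ c r ≠ 0 with hS
    have hSne : S.Nonempty := ⟨r₁, by
      rw [hS, Finset.mem_filter, Finset.mem_range]; exact ⟨hr₁.1, hr₁, hcr₁⟩⟩
    have hSJ : ∀ r ∈ S, D.IsPosRoot r ∧ D.InRootSub (FixJ D w) r := by
      intro r hr
      rw [hS, Finset.mem_filter] at hr
      exact ⟨hr.2.1, hstruct r hr.2.1 (hc r hr.2.1 hr.2.2)⟩
    obtain ⟨v, hv, hvpos, r₀, hr₀S, j, hj, hjJ, hr₀j⟩ :=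
      exists_word_to_simple_b D hA hBN hls (FixJ D w) S hSne hSJ
    have hvV : ValidW D v := fun i hi => (hv i hi).1
    have hr₀ : D.IsPosRoot r₀ ∧ c r₀ ≠ 0 := by
      rw [hS, Finset.mem_filter] at hr₀S; exact hr₀S.2
    obtain ⟨h1, hh1, e1⟩ := conj_N_by_J D hB hB0 hA hC hBN hW hO2 w hw h0 hh v
      (fun i hi => (hv i hi).2)
    obtain ⟨a, ha, u₁, hu₁, e2⟩ := conj_word_form D hB hA hC hBN hW v hvV c j hj r₀ hr₀.1 hr₀.2
      hr₀j (fun r hr hcr => hvpos r (by
        rw [hS, Finset.mem_filter, Finset.mem_range]; exact ⟨hr.1, hr, hcr⟩))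
    have hnG : (h8nWU D hB v : GL D.Idx F) ∈ D.group F :=
      h8_N_le_group D hB (h8nWU_mem_N D hB hA v hvV)
    have hconj : (h8nWU D hB v : GL D.Idx F) * (h0 * (h8nWU D hB w : GL D.Idx F) * f4cW D hB 0 c) *
        (h8nWU D hB v : GL D.Idx F)⁻¹ =
        h1 * (h8nWU D hB w : GL D.Idx F) * (h8xU D hB (D.simple j) a * u₁) := by
      rw [← e1, ← e2]; group
    have hmax' := isMax_conj D hB hA _ _ hnG w hmax
    rw [hconj] at hmax'
    have hsq' : (h1 * (h8nWU D hB w : GL D.Idx F) * (h8xU D hB (D.simple j) a * u₁)) *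
        (h1 * (h8nWU D hB w : GL D.Idx F) * (h8xU D hB (D.simple j) a * u₁)) = 1 := by
      rw [← hconj]
      have : ∀ (n y : GL D.Idx F), y * y = 1 → (n * y * n⁻¹) * (n * y * n⁻¹) = 1 := by
        intro n y hy
        have : (n * y * n⁻¹) * (n * y * n⁻¹) = n * (y * y) * n⁻¹ := by group
        rw [this, hy]; group
      exact this _ _ hsq
    exact ha (max_coord_zero D hB hB0 hA hC hBN hW hO2 w hw h1 u₁ hh1 j hj a hu₁ hjJ.2 hsq' hmax')

/-- FIN : every involution of `G` is conjugate to an element `h n_w` of `N`, where `w` is an involution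
fixing or making negative every fundamental root -/
theorem invol_conj_N (D : ChevalleyDatum) (hB : H8Base.{u} D) (hB0 : H8Base.{0} D)
    (hA : H8ReflAll D) (hC : H8CommAll.{u} D) (hBN : H8BN D) (hW : H8BN2 D) (hO : H8Ord D)
    (hO2 : H8Ord2 D) (hls : lsChk D = true)
    (hstruct : ∀ w, ValidW D w → JProp D w → ∀ r, D.IsPosRoot r → D.IsPosRoot (h8sW D w r) →
      D.InRootSub (FixJ D w) r)
    (t : GL D.Idx F) (ht : t ∈ D.group F) (hsq : t * t = 1) :
    ∃ g ∈ D.group F, ∃ w : List ℕ, ValidW D w ∧ JProp D w ∧ ∃ h0 ∈ D.diagonalSubgroup F,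
      g * t * g⁻¹ = h0 * (h8nWU D hB w : GL D.Idx F) := by
  obtain ⟨g, hg, w, hw, hcell, hmax⟩ := exists_max D hB hA hC hBN hW t ht
  obtain ⟨b, hb, h0, hh, u, hu, e⟩ := cell_normal_form D hB _ w hcell
  have hbG : b ∈ D.group F := h8_B_le_group D hB hb
  have hbgG : b * g ∈ D.group F := Subgroup.mul_mem _ hbG hg
  have e' : (b * g) * t * (b * g)⁻¹ = h0 * (h8nWU D hB w : GL D.Idx F) * u := by
    rw [← e]; group
  have hmax' := isMax_conj D hB hA t (b * g) hbgG w hmax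
  rw [e'] at hmax'
  have hsq' : (h0 * (h8nWU D hB w : GL D.Idx F) * u) * (h0 * (h8nWU D hB w : GL D.Idx F) * u) = 1 := by
    rw [← e']
    have : ((b * g) * t * (b * g)⁻¹) * ((b * g) * t * (b * g)⁻¹) = (b * g) * (t * t) * (b * g)⁻¹ := by
      group
    rw [this, hsq]; group
  have hinv := invol_sq D hB hA hC hBN hW hO2 w hw h0 u hh hu hsq'
  have hJ : JProp D w := by
    refine ⟨hinv, fun i hi => ?_⟩
    by_cases hpos : D.IsPosRoot (h8sW D w (D.simple i))
    · exact Or.inl (max_simple_fixed D hB hB0 hA hC hBN hW hO2 w hw h0 u hh hu hsq' hmax' i hi hpos)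
    · exact Or.inr hpos
  have hu1 := max_u_trivial D hB hB0 hA hC hBN hW hO hO2 hls w hw h0 u hh hu hsq' hmax'
    (hstruct w hw hJ)
  refine ⟨b * g, hbgG, w, hw, hJ, h0, hh, ?_⟩
  rw [e', hu1, mul_one]

end Cfsg.Agent.Lib.helper14.INV
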