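import Mathlib
import Cfsg.Prelude.Def_ChevStructure
import Cfsg.Agent.Lib.helper14.INV.Gen
import Cfsg.Agent.Lib.helper14.INV.F4Defs
import Cfsg.Agent.Lib.Helper1.INVSTDA
import Cfsg.Agent.Lib.Helper10.INVLEMN
import Cfsg.Agent.Lib.Helper11.INVMEM
import Cfsg.Agent.Lib.Helper11.INVSTDN
import Cfsg.Agent.Lib.Helper12.INVSTDC
import Cfsg.Agent.Lib.helper14.INVFUSEb
import Cfsg.Agent.Lib.helper14.INVNONCONJ
import Cfsg.Agent.Lib.helper14.INVTABb
/-!
# Project INV (S2174): the assembly — every involution of `F₄(F)`, `char F = 2`, is conjugate to one of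
the four representatives
-/

set_option autoImplicit false

namespace Cfsg.Agent.Lib.helper14.INV

open Cfsg.Lie Cfsg.Lie.ChevalleyDatum Cfsg.Agent.Lib.helper8 Cfsg.Agent.Lib.helper14

universe u

variable {F : Type u} [Field F]

theorem cj_refl (D : ChevalleyDatum) (a : GL D.Idx F) : Cj D a a :=
  ⟨1, Subgroup.one_mem _, by group⟩

theorem cj_trans (D : ChevalleyDatum) {a b c : GL D.Idx F} (h1 : Cj D a b) (h2 : Cj D b c) :
    Cj D a c := by
  obtain ⟨g, hg, e1⟩ := h1
  obtain ⟨g', hg', e2⟩ := h2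
  refine ⟨g' * g, Subgroup.mul_mem _ hg' hg, ?_⟩
  rw [← e2, ← e1]; group

theorem cj_symm (D : ChevalleyDatum) {a b : GL D.Idx F} (h : Cj D a b) : Cj D b a := by
  obtain ⟨g, hg, e⟩ := h
  refine ⟨g⁻¹, Subgroup.inv_mem _ hg, ?_⟩
  rw [← e]; group

theorem f4_lsChk : lsChk chevF4 = true := by decide +kernel

theorem f4_rep_mem : ∀ k < 11, f4Rep.getD k [] ∈ f4Reps := by decide

theorem f4_nroots' : chevF4.nroots = 48 := rfl

theorem odd_card_sub_one [Fintype F] [CharP F 2] : Odd (Fintype.card F - 1) := by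
  obtain ⟨n, hn⟩ := FiniteField.card F 2
  rw [hn.2]
  have h2 : 2 ∣ 2 ^ (n : ℕ) := dvd_pow_self 2 n.ne_zero
  have hpos : 0 < 2 ^ (n : ℕ) := by positivity
  rcases h2 with ⟨m, hm⟩
  rw [hm] at hpos ⊢
  refine ⟨m - 1, ?_⟩
  omega

/-- every involution of `F₄(F)`, `char F = 2`, is conjugate to one of the four representatives -/
theorem f4_invol_class [Fintype F] [CharP F 2] (t : GL chevF4.Idx F) (ht : t ∈ chevF4.group F)
    (ho : orderOf t = 2) :
    ∃ a ∈ f4Reps, Cj chevF4 t
      (w1 chevF4 (h8base_all.{u} chevF4 nc_memL) a : GL chevF4.Idx F) := by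
  have hD := nc_memL
  set hB := h8base_all.{u} chevF4 hD with hBdef
  have hB0 := h8base_all.{0} chevF4 hD
  have hA := h8reflAll chevF4 hD
  have hC := h8commAll.{u} chevF4 hD
  have hBN := h8bn_all chevF4 hD
  have hW := h8bn2_all chevF4 hD
  obtain ⟨hO, hO2⟩ := h8ord_all chevF4 hD
  have hsq : t * t = 1 := by
    have := pow_orderOf_eq_one t
    rw [ho, pow_two] at this
    exact this
  have hne : t ≠ 1 := by
    intro h
    rw [h, orderOf_one] at ho
    omega
  obtain ⟨g, hg, w, hw, hJ, h0, hh, e⟩ := invol_conj_N chevF4 hB hB0 hA hC hBN hW hO hO2 f4_lsChk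
    (fun w hw hJ => (f4_struct_gt w hw hJ).1) t ht hsq
  have htab := (f4_struct_gt w hw hJ).2
  have hn'N : h0 * (h8nWU chevF4 hB w : GL chevF4.Idx F) ∈ chevF4.monomialSubgroup F :=
    Subgroup.mul_mem _ (h8H_le_N chevF4 hh) (h8nWU_mem_N chevF4 hB hA w hw)
  have hn'sq : (h0 * (h8nWU chevF4 hB w : GL chevF4.Idx F)) *
      (h0 * (h8nWU chevF4 hB w : GL chevF4.Idx F)) = 1 := by
    rw [← e]
    have : (g * t * g⁻¹) * (g * t * g⁻¹) = g * (t * t) * g⁻¹ := by group
    rw [this, hsq]; group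
  have hn'act : ∀ r < 48, H8Act chevF4 hB (h0 * (h8nWU chevF4 hB w : GL chevF4.Idx F)) r
      (h8sW chevF4 w r) := by
    intro r hr
    have hr' : r < chevF4.nroots := hr
    have h1 := h8nWU_act (F := F) chevF4 hB hA w hw r hr'
    have h2 := h8perm_H_id chevF4 hB h0 hh (h8sW chevF4 w r) (h8sW_lt chevF4 hA w hw r hr')
    exact h8act_mul chevF4 hB h0 _ _ _ _ h1 h2
  have hodd : Odd (Nat.card (chevF4.diagonalSubgroup F)) := by
    rw [h8H_card_F4]
    exact Odd.pow odd_card_sub_one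
  obtain ⟨k, hk, hkeq⟩ := List.getElem_of_mem htab
  have hk12 : k < 12 := hk
  have hσ : ∀ r < 48, h8sW chevF4 w r = (f4Tabs.getD k []).getD r 0 := by
    intro r hr
    have h1 : ((List.range 48).map (h8sW chevF4 w)).getD r 0 = h8sW chevF4 w r := by
      rw [List.getD_eq_getElem _ _ (by simpa using hr)]
      simp
    rw [← h1, ← hkeq, List.getD_eq_getElem _ _ hk]
  by_cases hk11 : k = 11
  · -- the identity: `t = 1`
    exfalso
    subst hk11
    have hid : ∀ r < 48, h8sW chevF4 w r = r := by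
      intro r hr
      rw [hσ r hr]
      have : ∀ r < 48, (f4Tabs.getD 11 []).getD r 0 = r := by decide
      exact this r hr
    have h1act : ∀ r < chevF4.nroots, H8Act chevF4 hB (1 : GL chevF4.Idx F) r r := by
      intro r _
      refine ⟨1, one_ne_zero, fun t => ?_⟩
      rw [one_mul, inv_one, mul_one, one_mul]
    have hH := N_same_perm chevF4 hB hA hBN hW hO2 (1 : GL chevF4.Idx F)
      (h0 * (h8nWU chevF4 hB w : GL chevF4.Idx F)) (Subgroup.one_mem _) hn'N (fun r => r) h1act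
      (fun r hr => by have := hn'act r hr; rwa [hid r hr] at this)
    rw [inv_one, one_mul] at hH
    -- an involution in a group of odd order is trivial
    have hord : orderOf (⟨_, hH⟩ : chevF4.diagonalSubgroup F) ∣
        Nat.card (chevF4.diagonalSubgroup F) := orderOf_dvd_natCard _
    have h2 : (⟨_, hH⟩ : chevF4.diagonalSubgroup F) ^ 2 = 1 := by
      apply Subtype.ext
      rw [Subgroup.coe_pow, pow_two]
      exact hn'sq
    have hd2 : orderOf (⟨_, hH⟩ : chevF4.diagonalSubgroup F) ∣ 2 := orderOf_dvd_of_pow_eq_one h2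
    have hone : orderOf (⟨_, hH⟩ : chevF4.diagonalSubgroup F) = 1 := by
      have hodd' : Odd (orderOf (⟨_, hH⟩ : chevF4.diagonalSubgroup F)) := by
        obtain ⟨c, hc⟩ := hord
        rw [hc] at hodd
        exact (Nat.odd_mul.mp hodd).1
      rcases (Nat.dvd_prime Nat.prime_two).mp hd2 with h | h
      · exact h
      · rw [h] at hodd'; exact absurd hodd' (by decide)
    rw [orderOf_eq_one_iff] at hone
    have hn1 : h0 * (h8nWU chevF4 hB w : GL chevF4.Idx F) = 1 := congrArg Subtype.val hone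
    apply hne
    have : t = g⁻¹ * (g * t * g⁻¹) * g := by group
    rw [this, e, hn1]; group
  · have hk' : k < 11 := by omega
    obtain ⟨hzN, hzsq⟩ := f4_std_N (F := F) hB k hk'
    have hzact := fun r hr => f4_std_act (F := F) hB k hk' r hr
    have hzcj := f4_std_cj (F := F) hB k hk'
    have hH := N_same_perm chevF4 hB hA hBN hW hO2
      (h0 * (h8nWU chevF4 hB w : GL chevF4.Idx F)) _ hn'N hzN
      (fun r => (f4Tabs.getD k []).getD r 0)
      (fun r hr => by have := hn'act r hr; rwa [hσ r hr] at this) hzact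
    obtain ⟨h, hhH, eh⟩ := N_invol_conj chevF4 hB hA hBN hodd _ _ hn'N hzN hn'sq hzsq hH
    have hhG : h ∈ chevF4.group F := h8_B_le_group chevF4 hB (h8H_le_B chevF4 hhH)
    have hc1 : Cj chevF4 t (n1 chevF4 hB (f4Std.getD k []) : GL chevF4.Idx F) := by
      refine ⟨h * g, Subgroup.mul_mem _ hhG hg, ?_⟩
      rw [← eh, ← e]; group
    exact ⟨f4Rep.getD k [], f4_rep_mem k hk',
      cj_trans chevF4 hc1 (cj_trans chevF4 hzcj (f4_fuse_b hB hA hC hBN hO k hk'))⟩

end Cfsg.Agent.Lib.helper14.INV
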